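import Groth.Agent.Lib.FibreFlat.InjLocal
import Groth.Agent.Lib.FibreFlat.StalkAlg
import Mathlib

/-!
# Regular sequences on the fibre of a flat module of finite presentation
-/

set_option autoImplicit false
set_option linter.style.haveILetI false
universe u

open IsLocalRing RingTheory.Sequence TensorProduct
open scoped Pointwise

namespace GrothLib.FibreSeq

section Local

variable {R S : Type u} [CommRing R] [CommRing S] [IsLocalRing R] [IsLocalRing S] [Algebra R S]

theorem finitePresentation_quotSMulTop (g : S) (N : Type u) [AddCommGroup N] [Module S N]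
    [Module.FinitePresentation S N] : Module.FinitePresentation S (QuotSMulTop g N) := by
  refine Module.finitePresentation_of_surjective (Submodule.mkQ _) (Submodule.mkQ_surjective _) ?_
  rw [Submodule.ker_mkQ, ← Submodule.ideal_span_singleton_smul]
  exact Submodule.FG.smul (Submodule.fg_span_singleton g) Module.Finite.fg_top

/-- One step of slicing. -/
theorem step (hS : CAlgX.IsEssFinitePresentation R S) [IsLocalHom (algebraMap R S)]
    (N : Type u) [AddCommGroup N] [Module S N] [Module R N] [IsScalarTower R S N]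
    [Module.FinitePresentation S N] [Module.Flat R N] (g : S)
    (hg : IsSMulRegular ((S ⧸ (maximalIdeal R).map (algebraMap R S)) ⊗[S] N) g) :
    IsSMulRegular N g ∧ Module.Flat R (QuotSMulTop g N) := by
  set J := (maximalIdeal R).map (algebraMap R S)
  obtain ⟨hinj, hflat⟩ := FibreFlat.injective_flat_coker_local hS (DistribSMul.toLinearMap S N g)
    (fun x hx => by
      have h1 : TensorProduct.quotTensorEquivQuotSMul N J ((1 : S ⧸ J) ⊗ₜ (g • x)) = 0 := by
        rw [← map_one (Ideal.Quotient.mk J), TensorProduct.quotTensorEquivQuotSMul_mk_tmul, one_smul]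
        exact (Submodule.Quotient.mk_eq_zero _).2 hx
      rw [LinearEquiv.map_eq_zero_iff, TensorProduct.tmul_smul] at h1
      have h2 : (1 : S ⧸ J) ⊗ₜ[S] x = 0 := hg.right_eq_zero_of_smul h1
      have h3 := congrArg (TensorProduct.quotTensorEquivQuotSMul N J) h2
      rw [← map_one (Ideal.Quotient.mk J), TensorProduct.quotTensorEquivQuotSMul_mk_tmul, one_smul, map_zero] at h3
      exact (Submodule.Quotient.mk_eq_zero _).1 h3)
  refine ⟨hinj, ?_⟩
  have e : LinearMap.range (DistribSMul.toLinearMap S N g) = g • (⊤ : Submodule S N) := by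
    rw [LinearMap.range_eq_map]
    rfl
  exact Module.Flat.of_linearEquiv ((Submodule.quotEquivOfEq _ _ e).symm.restrictScalars R)

/-- Regular sequences on the fibre. -/
theorem regular_and_flat (hS : CAlgX.IsEssFinitePresentation R S) [IsLocalHom (algebraMap R S)] (gs : List S) :
    ∀ (N : Type u) [AddCommGroup N] [Module S N] [Module R N] [IsScalarTower R S N]
    [Module.FinitePresentation S N] [Module.Flat R N],
    IsWeaklyRegular ((S ⧸ (maximalIdeal R).map (algebraMap R S)) ⊗[S] N) gs →
      IsWeaklyRegular N gs ∧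
        ∀ i : ℕ, Module.Flat R (N ⧸ (Ideal.ofList (gs.take i) • (⊤ : Submodule S N))) := by
  induction gs with
  | nil =>
    intro N _ _ _ _ _ _ _
    refine ⟨IsWeaklyRegular.nil _ _, fun i => ?_⟩
    exact Module.Flat.of_linearEquiv
      ((((Submodule.quotEquivOfEq _ ⊥ (by simp)).trans (Submodule.quotEquivOfEqBot ⊥ rfl))).restrictScalars R)
  | cons g gs ih =>
    intro N _ _ _ _ _ _ hreg
    obtain ⟨hg, hgs⟩ := (isWeaklyRegular_cons_iff _ g gs).1 hreg
    obtain ⟨hgN, hflat⟩ := step hS N g hg
    haveI := hflat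
    haveI := finitePresentation_quotSMulTop g N
    obtain ⟨h1, h2⟩ := ih (QuotSMulTop g N)
      (((QuotSMulTop.tensorQuotSMulTopEquivQuotSMulTop g (S ⧸ (maximalIdeal R).map (algebraMap R S)) N).isWeaklyRegular_congr gs).2 hgs)
    refine ⟨(isWeaklyRegular_cons_iff _ g gs).2 ⟨hgN, h1⟩, fun i => ?_⟩
    cases i with
    | zero =>
      exact Module.Flat.of_linearEquiv
        ((((Submodule.quotEquivOfEq _ ⊥ (by simp)).trans (Submodule.quotEquivOfEqBot ⊥ rfl))).restrictScalars R)
    | succ i =>
      haveI := h2 i
      rw [List.take_succ_cons]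
      exact Module.Flat.of_linearEquiv
        ((Submodule.quotOfListConsSMulTopEquivQuotSMulTopInner N g (gs.take i)).restrictScalars R)

end Local

section AtPrime

variable {A B : Type u} [CommRing A] [CommRing B] [Algebra A B] (M : Type u) [AddCommGroup M] [Module B M]
  [Module A M] [IsScalarTower A B M] (q : Ideal B) [q.IsPrime]

theorem fibre_equiv (R : Type u) [CommRing R] [Algebra A R] [IsLocalization.AtPrime R (q.comap (algebraMap A B))]
    [IsLocalRing R] [Algebra R (Localization.AtPrime q)] [IsScalarTower A R (Localization.AtPrime q)] :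
    Nonempty (LocalizedModule q.primeCompl (M ⊗[A] (q.comap (algebraMap A B)).ResidueField) ≃ₗ[B]
      ((Localization.AtPrime q ⧸ (maximalIdeal R).map (algebraMap R (Localization.AtPrime q))) ⊗[Localization.AtPrime q]
        LocalizedModule q.primeCompl M)) := by
  set p := q.comap (algebraMap A B)
  let S := Localization.AtPrime q
  let J := (maximalIdeal R).map (algebraMap R S)
  let Mq := LocalizedModule q.primeCompl M
  let Q := (S ⧸ J) ⊗[S] Mq
  let T := LocalizedModule q.primeCompl (M ⊗[A] p.ResidueField)
  have hσ₁ : p ≤ RingHom.ker (algebraMap A (S ⧸ J)) := fun a ha => by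
    rw [RingHom.mem_ker, IsScalarTower.algebraMap_apply A R (S ⧸ J), IsScalarTower.algebraMap_apply R S (S ⧸ J),
      Ideal.Quotient.algebraMap_eq, Ideal.Quotient.eq_zero_iff_mem]
    exact Ideal.mem_map_of_mem _ ((IsLocalization.AtPrime.to_map_mem_maximal_iff R p a).2 ha)
  have hσ₂ : p.primeCompl ≤ (IsUnit.submonoid (S ⧸ J)).comap (algebraMap A (S ⧸ J)) := fun a ha => by
    show IsUnit _
    rw [IsScalarTower.algebraMap_apply A R (S ⧸ J)]
    exact (IsLocalization.map_units R (⟨a, ha⟩ : p.primeCompl)).map _
  let σ : p.ResidueField →ₐ[A] S ⧸ J := Ideal.ResidueField.liftₐ p (Algebra.ofId A (S ⧸ J)) hσ₁ hσ₂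
  haveI : IsScalarTower A B Q := IsScalarTower.of_algebraMap_smul fun a x => by
    rw [← algebraMap_smul S (algebraMap A B a) x, ← IsScalarTower.algebraMap_apply A B S, algebraMap_smul]
  let ψ₀ : M →ₗ[B] (p.ResidueField →ₗ[A] Q) :=
    { toFun := fun m =>
        { toFun := fun c => σ c ⊗ₜ[S] LocalizedModule.mkLinearMap q.primeCompl M m
          map_add' := fun c d => by rw [map_add, TensorProduct.add_tmul]
          map_smul' := fun a c => by rw [map_smul, RingHom.id_apply, TensorProduct.smul_tmul'] }
      map_add' := fun m n => LinearMap.ext fun c => by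
        show σ c ⊗ₜ[S] LocalizedModule.mkLinearMap q.primeCompl M (m + n) = _
        rw [map_add, TensorProduct.tmul_add]; rfl
      map_smul' := fun b m => LinearMap.ext fun c => by
        show σ c ⊗ₜ[S] LocalizedModule.mkLinearMap q.primeCompl M (b • m) = b • (σ c ⊗ₜ[S] LocalizedModule.mkLinearMap q.primeCompl M m)
        rw [map_smul, ← algebraMap_smul S b, TensorProduct.tmul_smul, algebraMap_smul] }
  let ψ : M ⊗[A] p.ResidueField →ₗ[B] Q := TensorProduct.AlgebraTensorModule.lift ψ₀
  have hψ : ∀ m c, ψ (m ⊗ₜ c) = σ c ⊗ₜ[S] LocalizedModule.mkLinearMap q.primeCompl M m := fun m c => rfl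
  have hQu : ∀ s : q.primeCompl, IsUnit (algebraMap B (Module.End B Q) s) := fun s => by
    have hu : IsUnit (algebraMap B S s) := IsLocalization.map_units S s
    rw [Module.End.isUnit_iff]
    refine ⟨fun x y hxy => ?_, fun x => ⟨((hu.unit⁻¹ : Sˣ) : S) • x, ?_⟩⟩
    · simp only [Module.algebraMap_end_apply] at hxy
      rw [← algebraMap_smul S (s : B) x, ← algebraMap_smul S (s : B) y] at hxy
      exact hu.smul_left_cancel.1 hxy
    · simp only [Module.algebraMap_end_apply]
      rw [← algebraMap_smul S (s : B), smul_smul, hu.mul_val_inv, one_smul]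
  let Ψ : T →ₗ[B] Q := LocalizedModule.lift q.primeCompl ψ hQu
  have hΨ : ∀ m c, Ψ (LocalizedModule.mkLinearMap q.primeCompl _ (m ⊗ₜ c)) = σ c ⊗ₜ[S] LocalizedModule.mkLinearMap q.primeCompl M m :=
    fun m c => (LinearMap.congr_fun (LocalizedModule.lift_comp q.primeCompl ψ hQu) (m ⊗ₜ c)).trans (hψ m c)
  -- the map in the other direction
  let φ₀ : M →ₗ[B] T :=
    { toFun := fun m => LocalizedModule.mkLinearMap q.primeCompl _ (m ⊗ₜ[A] (1 : p.ResidueField))
      map_add' := fun m n => by rw [TensorProduct.add_tmul, map_add]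
      map_smul' := fun b m => by rw [RingHom.id_apply, ← map_smul, TensorProduct.smul_tmul'] }
  let φ : Mq →ₗ[B] T := LocalizedModule.lift q.primeCompl φ₀ fun s =>
    IsLocalizedModule.map_units (LocalizedModule.mkLinearMap q.primeCompl (M ⊗[A] p.ResidueField)) s
  let φS : Mq →ₗ[S] T := LinearMap.extendScalarsOfIsLocalization q.primeCompl S φ
  have hφ : ∀ m, φS (LocalizedModule.mkLinearMap q.primeCompl M m) =
      LocalizedModule.mkLinearMap q.primeCompl _ (m ⊗ₜ[A] (1 : p.ResidueField)) := fun m =>
    LinearMap.congr_fun (LocalizedModule.lift_comp q.primeCompl φ₀ _) m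
  have hker : J • (⊤ : Submodule S Mq) ≤ LinearMap.ker φS := by
    refine Submodule.smul_le.2 fun s hs x _ => ?_
    have hJann : J ≤ Module.annihilator S T := by
      refine Ideal.map_le_iff_le_comap.2 fun r hr => ?_
      obtain ⟨a, c, rfl⟩ := IsLocalization.exists_mk'_eq p.primeCompl r
      have ha : a ∈ p := by
        rw [IsLocalization.AtPrime.mk'_mem_maximal_iff R p] at hr
        exact hr
      rw [Ideal.mem_comap, IsLocalization.mk'_eq_mul_mk'_one, map_mul]
      refine Ideal.mul_mem_right _ _ (Module.mem_annihilator.2 fun z => ?_)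
      rw [← IsScalarTower.algebraMap_apply A R S, IsScalarTower.algebraMap_apply A B S, algebraMap_smul]
      obtain ⟨⟨y, t⟩, rfl⟩ := IsLocalizedModule.mk'_surjective q.primeCompl
        (LocalizedModule.mkLinearMap q.primeCompl (M ⊗[A] p.ResidueField)) z
      rw [Function.uncurry_apply_pair, ← IsLocalizedModule.mk'_smul]
      suffices algebraMap A B a • y = 0 by rw [this, IsLocalizedModule.mk'_zero]
      rw [algebraMap_smul]
      induction y using TensorProduct.induction_on with
      | zero => exact smul_zero _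
      | add u v hu hv => rw [smul_add, hu, hv, add_zero]
      | tmul u v => rw [← TensorProduct.tmul_smul, Algebra.smul_def, Ideal.algebraMap_residueField_eq_zero.2 ha, zero_mul, TensorProduct.tmul_zero]
    rw [LinearMap.mem_ker, map_smul]
    exact Module.mem_annihilator.1 (hJann hs) _
  let Φ : Q →ₗ[S] T := ((J • (⊤ : Submodule S Mq)).liftQ φS hker) ∘ₗ (TensorProduct.quotTensorEquivQuotSMul Mq J).toLinearMap
  have hΦ : ∀ m, Φ ((1 : S ⧸ J) ⊗ₜ[S] LocalizedModule.mkLinearMap q.primeCompl M m) =
      LocalizedModule.mkLinearMap q.primeCompl _ (m ⊗ₜ[A] (1 : p.ResidueField)) := fun m => by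
    simp only [Φ, LinearMap.comp_apply, LinearEquiv.coe_coe]
    rw [← map_one (Ideal.Quotient.mk J), TensorProduct.quotTensorEquivQuotSMul_mk_tmul, one_smul]
    exact hφ m
  refine ⟨LinearEquiv.ofLinear Ψ (Φ.restrictScalars B) ?_ ?_⟩
  · -- on `Q`
    have key : ∀ x : Mq, Ψ (Φ ((1 : S ⧸ J) ⊗ₜ[S] x)) = (1 : S ⧸ J) ⊗ₜ[S] x := by
      have := IsLocalizedModule.ext q.primeCompl (LocalizedModule.mkLinearMap q.primeCompl M)
        (j := Ψ ∘ₗ (Φ.restrictScalars B) ∘ₗ ((TensorProduct.mk S (S ⧸ J) Mq 1).restrictScalars B))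
        (k := (TensorProduct.mk S (S ⧸ J) Mq 1).restrictScalars B) hQu (LinearMap.ext fun m => by
          show Ψ (Φ ((1 : S ⧸ J) ⊗ₜ[S] LocalizedModule.mkLinearMap q.primeCompl M m)) = _
          rw [hΦ, hΨ, map_one]
          rfl)
      exact fun x => LinearMap.congr_fun this x
    refine LinearMap.ext fun z => ?_
    obtain ⟨x, rfl⟩ : ∃ x : Mq, (1 : S ⧸ J) ⊗ₜ[S] x = z := by
      induction z using TensorProduct.induction_on with
      | zero => exact ⟨0, TensorProduct.tmul_zero _ _⟩
      | add u v hu hv =>
        obtain ⟨a, rfl⟩ := hu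
        obtain ⟨b, rfl⟩ := hv
        exact ⟨a + b, TensorProduct.tmul_add _ _ _⟩
      | tmul u v =>
        obtain ⟨s, rfl⟩ := Ideal.Quotient.mk_surjective u
        exact ⟨s • v, by rw [← TensorProduct.smul_tmul, ← Ideal.Quotient.algebraMap_eq, Algebra.algebraMap_eq_smul_one]⟩
    exact key x
  · -- on `T`
    refine IsLocalizedModule.ext q.primeCompl (LocalizedModule.mkLinearMap q.primeCompl (M ⊗[A] p.ResidueField))
      (IsLocalizedModule.map_units (LocalizedModule.mkLinearMap q.primeCompl (M ⊗[A] p.ResidueField))) ?_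
    refine LinearMap.ext fun z => ?_
    show Φ (Ψ (LocalizedModule.mkLinearMap q.primeCompl _ z)) = LocalizedModule.mkLinearMap q.primeCompl _ z
    induction z using TensorProduct.induction_on with
    | zero => simp
    | add u v hu hv => simp only [map_add, hu, hv]
    | tmul m c =>
      rw [hΨ]
      obtain ⟨a, d, hd, hcd⟩ : ∃ (a d : A), d ∉ p ∧ algebraMap A p.ResidueField d * c = algebraMap A p.ResidueField a := by
        obtain ⟨⟨a', d'⟩, h⟩ := IsLocalization.surj (nonZeroDivisors (A ⧸ p)) c
        obtain ⟨a, rfl⟩ := Ideal.Quotient.mk_surjective a'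
        obtain ⟨d, hd⟩ := Ideal.Quotient.mk_surjective (d' : A ⧸ p)
        refine ⟨a, d, fun hdp => nonZeroDivisors.coe_ne_zero d' (hd ▸ Ideal.Quotient.eq_zero_iff_mem.2 hdp), ?_⟩
        simp only at h
        rw [← hd, Ideal.algebraMap_quotient_residueField_mk, Ideal.algebraMap_quotient_residueField_mk, mul_comm] at h
        exact h
      have hu : IsUnit (algebraMap B (Module.End B T) (algebraMap A B d)) :=
        IsLocalizedModule.map_units (LocalizedModule.mkLinearMap q.primeCompl (M ⊗[A] p.ResidueField))
          (⟨algebraMap A B d, hd⟩ : q.primeCompl)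
      apply (Module.End.isUnit_iff _).1 hu |>.1
      simp only [Module.algebraMap_end_apply]
      have e1 : algebraMap A B d • (σ c ⊗ₜ[S] LocalizedModule.mkLinearMap q.primeCompl M m) =
          (1 : S ⧸ J) ⊗ₜ[S] LocalizedModule.mkLinearMap q.primeCompl M (algebraMap A B a • m) := by
        have hσ : algebraMap A (S ⧸ J) d * σ c = algebraMap A (S ⧸ J) a := by
          rw [← σ.commutes d, ← map_mul, hcd, σ.commutes]
        rw [map_smul, ← algebraMap_smul S (algebraMap A B a), TensorProduct.tmul_smul, algebraMap_smul,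
          algebraMap_smul, algebraMap_smul, TensorProduct.smul_tmul', TensorProduct.smul_tmul']
        exact congrArg (· ⊗ₜ[S] LocalizedModule.mkLinearMap q.primeCompl M m)
          ((Algebra.smul_def d (σ c)).trans (hσ.trans (Algebra.algebraMap_eq_smul_one a)))
      rw [show algebraMap A B d • Φ (σ c ⊗ₜ[S] LocalizedModule.mkLinearMap q.primeCompl M m) =
          Φ (algebraMap A B d • (σ c ⊗ₜ[S] LocalizedModule.mkLinearMap q.primeCompl M m)) from
        ((Φ.restrictScalars B).map_smul _ _).symm, e1, hΦ, ← map_smul]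
      congr 1
      rw [algebraMap_smul, algebraMap_smul, TensorProduct.smul_tmul, ← TensorProduct.tmul_smul, Algebra.smul_def,
        Algebra.smul_def, hcd, mul_one]

variable [Algebra.FinitePresentation A B] [Module.FinitePresentation B M]

theorem isRegular_and_flat_quotients (g : List B) (hg : ∀ b ∈ g, b ∈ q)
    (hflat : Module.Flat A (LocalizedModule q.primeCompl M))
    (hreg : IsRegular (LocalizedModule q.primeCompl (M ⊗[A] (q.comap (algebraMap A B)).ResidueField)) g) :
    IsRegular (LocalizedModule q.primeCompl M) g ∧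
      ∀ i ≤ g.length, Module.Flat A
        (LocalizedModule q.primeCompl (M ⧸ (Ideal.span {b | b ∈ g.take i} • (⊤ : Submodule B M)))) := by
  set p := q.comap (algebraMap A B)
  let R := Localization.AtPrime p
  let S := Localization.AtPrime q
  letI : Algebra R S := (Localization.localRingHom p q (algebraMap A B) rfl).toAlgebra
  haveI : IsScalarTower A R S := IsScalarTower.of_algebraMap_eq fun a => by
    rw [IsScalarTower.algebraMap_apply A B S]
    exact (Localization.localRingHom_to_map p q (algebraMap A B) rfl a).symm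
  haveI : IsLocalHom (algebraMap R S) := Localization.isLocalHom_localRingHom p q (algebraMap A B) rfl
  have hS : CAlgX.IsEssFinitePresentation R S :=
    @FibreFlat.isEssFinitePresentation_localization A R B S _ _ _ _ _ _ _ _ _ _ _ p.primeCompl _ q.primeCompl _ _
  let Mq := LocalizedModule q.primeCompl M
  letI : Module R Mq := Module.compHom Mq (algebraMap R S)
  haveI : IsScalarTower R S Mq := IsScalarTower.of_algebraMap_smul fun _ _ => rfl
  haveI : IsScalarTower A R Mq := IsScalarTower.of_algebraMap_smul fun a x => by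
    show algebraMap R S (algebraMap A R a) • x = a • x
    rw [← IsScalarTower.algebraMap_apply A R S, IsScalarTower.algebraMap_apply A B S, algebraMap_smul, algebraMap_smul]
  haveI : Module.FinitePresentation S Mq :=
    FinitePresentation.of_isBaseChange (LocalizedModule.mkLinearMap q.primeCompl M)
      (IsLocalizedModule.isBaseChange q.primeCompl S (LocalizedModule.mkLinearMap q.primeCompl M))
  haveI : Module.Flat R Mq := (Module.flat_iff_of_isLocalization R p.primeCompl Mq).2 hflat
  obtain ⟨e⟩ := fibre_equiv (A := A) M q R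
  have hw : IsWeaklyRegular ((S ⧸ (maximalIdeal R).map (algebraMap R S)) ⊗[S] Mq) (g.map (algebraMap B S)) :=
    (isWeaklyRegular_map_algebraMap_iff S _ g).2 ((e.isWeaklyRegular_congr g).1 hreg.toIsWeaklyRegular)
  obtain ⟨h1, h2⟩ := regular_and_flat hS (g.map (algebraMap B S)) Mq hw
  haveI : Nontrivial Mq := by
    by_contra hc
    rw [not_nontrivial_iff_subsingleton] at hc
    haveI : Nontrivial (LocalizedModule q.primeCompl (M ⊗[A] p.ResidueField)) := hreg.nontrivial
    haveI : Subsingleton ((S ⧸ (maximalIdeal R).map (algebraMap R S)) ⊗[S] Mq) := ⟨fun a b => by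
      have key : ∀ a : (S ⧸ (maximalIdeal R).map (algebraMap R S)) ⊗[S] Mq, a = 0 := fun a => by
        induction a using TensorProduct.induction_on with
        | zero => rfl
        | add u v hu hv => rw [hu, hv, add_zero]
        | tmul u v => rw [Subsingleton.elim v 0, TensorProduct.tmul_zero]
      rw [key a, key b]⟩
    exact not_subsingleton _ e.toEquiv.subsingleton
  haveI : Module.Finite S Mq := inferInstance
  have hr : IsRegular Mq (g.map (algebraMap B S)) :=
    IsRegular.of_isWeaklyRegular_of_mem_maximalIdeal (mem := fun r hr => by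
      obtain ⟨b, hb, rfl⟩ := List.mem_map.1 hr
      exact (IsLocalization.AtPrime.to_map_mem_maximal_iff S q b).2 (hg b hb)) (reg := h1)
  refine ⟨⟨(isWeaklyRegular_map_algebraMap_iff S _ g).1 h1, fun htop => hr.top_ne_smul ?_⟩, fun i _ => ?_⟩
  · refine (top_le_iff.1 fun x _ => ?_).symm
    have hx : x ∈ Ideal.ofList g • (⊤ : Submodule B Mq) := htop.le Submodule.mem_top
    refine Submodule.smul_induction_on hx (fun b hb y _ => ?_) fun a b ha hb => add_mem ha hb
    rw [← algebraMap_smul S b, ← Ideal.map_ofList]
    exact Submodule.smul_mem_smul (Ideal.mem_map_of_mem _ hb) trivial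
  · haveI : Module.Flat R (Mq ⧸ (Ideal.ofList ((g.map (algebraMap B S)).take i) • (⊤ : Submodule S Mq))) := h2 i
    let e0 := LocalizedModule.equivTensorProduct q.primeCompl M
    let e1 : (Mq ⧸ (Ideal.ofList ((g.map (algebraMap B S)).take i) • (⊤ : Submodule S Mq))) ≃ₗ[S]
        LocalizedModule q.primeCompl (M ⧸ (Ideal.ofList (g.take i) • (⊤ : Submodule B M))) :=
      (Submodule.Quotient.equiv _ ((Ideal.ofList (g.take i)).map (algebraMap B S) • ⊤) e0 (by
        rw [Submodule.map_smul'', Submodule.map_top, LinearEquiv.range, Ideal.map_ofList, List.map_take])).trans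
          ((tensorQuotMapSMulEquivTensorQuot M S (Ideal.ofList (g.take i))).trans
            (LocalizedModule.equivTensorProduct q.primeCompl _).symm)
    haveI : Module.Flat A (Mq ⧸ (Ideal.ofList ((g.map (algebraMap B S)).take i) • (⊤ : Submodule S Mq))) :=
      (Module.flat_iff_of_isLocalization R p.primeCompl _).1 inferInstance
    show Module.Flat A (LocalizedModule q.primeCompl (M ⧸ (Ideal.ofList (g.take i) • (⊤ : Submodule B M))))
    exact Module.Flat.of_linearEquiv (e1.restrictScalars A).symm

end AtPrime

end GrothLib.FibreSeq
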